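import Groth.Agent.CycLib.SchemeDim
import Groth.Agent.EtStruct.QFinPts
import Groth.Prelude.Def_Dual3

/-!
# Quasi-finiteness over points of codimension at most one

* `quasiFiniteAt_of_codim_le_one`: for `h` locally of finite type over a locally Noetherian scheme, `u` over a point of
  codimension at most one: if the maximal points generalising `u` have algebraic residue extension, `h` is quasi-finite at `u`.
-/

set_option autoImplicit false
set_option linter.style.haveILetI false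
set_option backward.isDefEq.respectTransparency false

universe u

open CategoryTheory AlgebraicGeometry

namespace Groth.Agent.AlgSpCov.CodimQf

open Groth.Agent Groth.Agent.CycLib

theorem height_map_le {A : Type u} [CommRing A] (p p' : Ideal A) [p'.IsPrime]
    (pb : Ideal (A ⧸ p)) [pb.IsPrime] (h : pb.comap (Ideal.Quotient.mk p) = p') : pb.height ≤ p'.height := by
  rw [(⟨pb, ‹_›⟩ : PrimeSpectrum (A ⧸ p)).height_eq_orderHeight,
    (⟨p', ‹_›⟩ : PrimeSpectrum A).height_eq_orderHeight]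
  have hm : StrictMono (PrimeSpectrum.comap (Ideal.Quotient.mk p)) :=
    (Monotone.strictMono_of_injective (fun a b hab => Ideal.comap_mono hab)
      (PrimeSpectrum.comap_injective_of_surjective _ Ideal.Quotient.mk_surjective))
  refine le_of_le_of_eq (Order.height_le_height_apply_of_strictMono _ hm _) ?_
  exact congrArg Order.height (PrimeSpectrum.ext h)

variable {U V : Scheme.{u}} (h : U ⟶ V) [LocallyOfFiniteType h] [IsLocallyNoetherian V]

theorem resTrdeg_eq_zero (u' : U) (hdim : ringKrullDim (V.presheaf.stalk (h u')) ≤ 1)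
    (hgen : ∀ ξ, ξ ⤳ u' → (∀ z, z ⤳ ξ → z = ξ) → Dual3.resTrdeg h ξ = 0) : Dual3.resTrdeg h u' = 0 := by
  obtain ⟨Vo, hV, hxV, -⟩ := exists_isAffineOpen_mem_and_subset (x := h u') (U := (⊤ : V.Opens)) trivial
  obtain ⟨Uo, hU, hxU, hUV⟩ := exists_isAffineOpen_mem_and_subset (x := u') (U := h ⁻¹ᵁ Vo) hxV
  obtain ⟨m, hm, hmle⟩ := Ideal.exists_minimalPrimes_le (I := (⊥ : Ideal Γ(U, Uo)))
    (J := (hU.primeIdealOf ⟨u', hxU⟩).asIdeal) bot_le
  haveI := hm.1.1
  set ξ := hU.fromSpec ⟨m, inferInstance⟩ with hξ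
  have hξu : ξ ⤳ u' := by
    have := (primeIdealOf_le_iff hU ⟨m, inferInstance⟩ (hU.primeIdealOf ⟨u', hxU⟩)).1 hmle
    rwa [hU.fromSpec_primeIdealOf] at this
  have hξU : ξ ∈ Uo := hξu.mem_open Uo.2 hxU
  have hξeq : hU.primeIdealOf ⟨ξ, hξU⟩ = ⟨m, inferInstance⟩ :=
    hU.fromSpec.isOpenEmbedding.injective (hU.fromSpec_primeIdealOf _)
  have hξmax : ∀ z, z ⤳ ξ → z = ξ := fun z hz => by
    have hzU : z ∈ Uo := hz.mem_open Uo.2 hξU
    have hle : hU.primeIdealOf ⟨z, hzU⟩ ≤ ⟨m, inferInstance⟩ := by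
      rw [primeIdealOf_le_iff hU, hU.fromSpec_primeIdealOf]
      exact hz
    have := congrArg hU.fromSpec (PrimeSpectrum.ext (le_antisymm hle (hm.2 ⟨inferInstance, bot_le⟩ hle)) :
      hU.primeIdealOf ⟨z, hzU⟩ = ⟨m, inferInstance⟩)
    rwa [hU.fromSpec_primeIdealOf] at this
  have h0 := hgen ξ hξu hξmax
  by_cases heq : ξ = u'
  · rw [← heq]; exact h0
  haveI : IsNoetherianRing Γ(V, Vo) := IsLocallyNoetherian.component_noetherian ⟨Vo, hV⟩
  letI := (h.appLE Vo Uo hUV).hom.toAlgebra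
  haveI : Algebra.FiniteType Γ(V, Vo) Γ(U, Uo) := h.finiteType_appLE hV hU hUV
  let q := hU.primeIdealOf ⟨ξ, hξU⟩
  let q' := hU.primeIdealOf ⟨u', hxU⟩
  let p := hV.primeIdealOf ⟨h ξ, hUV hξU⟩
  let p' := hV.primeIdealOf ⟨h u', hUV hxU⟩
  haveI hqp : q.asIdeal.LiesOver p.asIdeal := liesOver_primeIdealOf h hV hU hUV hξU
  haveI hqp' : q'.asIdeal.LiesOver p'.asIdeal := liesOver_primeIdealOf h hV hU hUV hxU
  have hlt : q < q' := by
    refine lt_of_le_of_ne ((primeIdealOf_le_iff hU _ _).2 ?_) fun e => heq ?_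
    · rwa [hU.fromSpec_primeIdealOf, hU.fromSpec_primeIdealOf]
    · have := congrArg hU.fromSpec e
      rwa [hU.fromSpec_primeIdealOf, hU.fromSpec_primeIdealOf] at this
  have hpp : p.asIdeal ≤ p'.asIdeal := by
    rw [Ideal.over_def q.asIdeal p.asIdeal, Ideal.over_def q'.asIdeal p'.asIdeal]
    exact Ideal.comap_mono hlt.le
  let π := Ideal.Quotient.mk p.asIdeal
  let ρ := Ideal.Quotient.mk q.asIdeal
  let pb : Ideal (Γ(V, Vo) ⧸ p.asIdeal) := p'.asIdeal.map π
  let qb : Ideal (Γ(U, Uo) ⧸ q.asIdeal) := q'.asIdeal.map ρ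
  haveI : pb.IsPrime := Ideal.map_isPrime_of_surjective Ideal.Quotient.mk_surjective
    (by rw [Ideal.mk_ker]; exact hpp)
  haveI : qb.IsPrime := Ideal.map_isPrime_of_surjective Ideal.Quotient.mk_surjective
    (by rw [Ideal.mk_ker]; exact hlt.le)
  have hpc : pb.comap π = p'.asIdeal := by
    rw [Ideal.comap_map_of_surjective _ Ideal.Quotient.mk_surjective, ← RingHom.ker_eq_comap_bot,
      Ideal.mk_ker, sup_eq_left.2 hpp]
  have hqc : qb.comap ρ = q'.asIdeal := by
    rw [Ideal.comap_map_of_surjective _ Ideal.Quotient.mk_surjective, ← RingHom.ker_eq_comap_bot,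
      Ideal.mk_ker, sup_eq_left.2 hlt.le]
  haveI : qb.LiesOver pb := ⟨by
    apply Ideal.comap_injective_of_surjective π Ideal.Quotient.mk_surjective
    rw [hpc, Ideal.over_def q'.asIdeal p'.asIdeal, Ideal.under_def, Ideal.under_def, ← hqc,
      Ideal.comap_comap, Ideal.comap_comap]
    rfl⟩
  haveI : Algebra.FiniteType (Γ(V, Vo) ⧸ p.asIdeal) (Γ(U, Uo) ⧸ q.asIdeal) :=
    Algebra.FiniteType.of_restrictScalars_finiteType Γ(V, Vo) _ _
  obtain ⟨hq, hp, t, T, hhq, hhp, ht, hT, hle, -⟩ := height_add_trdeg pb qb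
  have c : Algebra.trdeg ((Γ(V, Vo) ⧸ p.asIdeal) ⧸ pb) ((Γ(U, Uo) ⧸ q.asIdeal) ⧸ qb) =
      Algebra.trdeg (Γ(V, Vo) ⧸ p'.asIdeal) (Γ(U, Uo) ⧸ q'.asIdeal) :=
    trdeg_congr (DoubleQuot.quotQuotEquivQuotOfLE hpp) (DoubleQuot.quotQuotEquivQuotOfLE hlt.le)
      (fun x => by
        obtain ⟨y, rfl⟩ := Ideal.Quotient.mk_surjective x
        obtain ⟨a, rfl⟩ := Ideal.Quotient.mk_surjective y
        rfl)
  rw [c, trdeg_residueField_eq h hV hU hUV hxU] at ht
  rw [trdeg_residueField_eq h hV hU hUV hξU] at hT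
  change Dual3.resTrdeg h u' = (t : Cardinal) at ht
  change Dual3.resTrdeg h ξ = (T : Cardinal) at hT
  rw [h0] at hT
  have hT0 : T = 0 := by exact_mod_cast hT.symm
  have hp1 : hp ≤ 1 := by
    have h1 := height_map_le p.asIdeal p'.asIdeal pb hpc
    letI := TopCat.Presheaf.algebra_section_stalk V.presheaf (⟨h u', hUV hxU⟩ : Vo)
    haveI := hV.isLocalization_stalk ⟨h u', hUV hxU⟩
    rw [IsLocalization.AtPrime.ringKrullDim_eq_height p'.asIdeal (V.presheaf.stalk (h u'))] at hdim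
    rw [hhp] at h1
    have h2 : (p'.asIdeal.height : WithBot ℕ∞) ≤ ((1 : ℕ∞) : WithBot ℕ∞) := hdim
    exact_mod_cast h1.trans (WithBot.coe_le_coe.1 h2)
  have hq1 : 1 ≤ hq := by
    rw [Nat.one_le_iff_ne_zero]
    rintro rfl
    haveI : (⊥ : Ideal (Γ(U, Uo) ⧸ q.asIdeal)).IsPrime := Ideal.isPrime_bot
    have hbot : qb = ⊥ := le_bot_iff.1 ((Ideal.height_eq_zero_iff.1 (by simpa using hhq)).2
      ⟨inferInstance, le_rfl⟩ bot_le)
    have : q'.asIdeal = q.asIdeal := by
      rw [← hqc, hbot, ← RingHom.ker_eq_comap_bot, Ideal.mk_ker]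
    exact hlt.ne (PrimeSpectrum.ext this.symm)
  have : t = 0 := by omega
  rw [ht, this, Nat.cast_zero]

theorem quasiFiniteAt_of_codim_le_one (u : U) (hdim : ringKrullDim (V.presheaf.stalk (h u)) ≤ 1)
    (hgen : ∀ ξ, ξ ⤳ u → (∀ z, z ⤳ ξ → z = ξ) → Dual3.resTrdeg h ξ = 0) : h.QuasiFiniteAt u := by
  have key : ∀ u', u' ⤳ u → h u' = h u → IsClosed ({h.asFiber u'} : Set (h.fiber (h u'))) := by
    intro u' hu' he
    refine EtStruct.isClosed_asFiber_of_isAlgebraic h u' ?_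
    letI := (h.residueFieldMap u').hom.toAlgebra
    refine _root_.trdeg_eq_zero_iff.1 ?_
    exact resTrdeg_eq_zero h u' (by rw [he]; exact hdim) fun ξ hξ hmax => hgen ξ (hξ.trans hu') hmax
  refine (EtStruct.quasiFiniteAt_iff_isClosed_and_forall h u).2 ⟨key u (specializes_refl _) rfl, fun z hz => ?_⟩
  have hzu : h.fiberι (h u) z ⤳ u := by
    have := hz.map (h.fiberι (h u)).continuous
    rwa [h.fiberι_asFiber] at this
  have he : h (h.fiberι (h u) z) = h u := by
    have := Set.mem_range_self (f := h.fiberι (h u)) z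
    rwa [h.range_fiberι] at this
  have hcl := (EtStruct.isClosed_asFiber_iff h _ z rfl).1 (key _ hzu he)
  exact (hcl.closure_eq.le (specializes_iff_mem_closure.1 hz)).symm

end Groth.Agent.AlgSpCov.CodimQf
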