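import Groth.Agent.AlgSpCov.CodimQf.Sch
import Groth.Agent.AlgSpD.LqfLocus
import Groth.Agent.AlgSp.Codim0
import Groth.Agent.AlgSp.NoethFib

/-!
# Quasi-finite at the points over a point of codimension at most one

* `lqfNear_of_codim_le_one`: the maximal points of a chart decide quasi-finiteness at all points over `y`.
-/

set_option autoImplicit false
set_option linter.style.haveILetI false
set_option backward.isDefEq.respectTransparency false

universe u

open CategoryTheory AlgebraicGeometry Topology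

namespace Groth.Agent.AlgSpCov.CodimQf

open Groth.Agent
open _root_.AlgSp

variable {S : Scheme.{u}} {X Y : AlgSp.Space S} (f : X ⟶ Y)

/-- Quasi-finite at the point and residue transcendence degree zero, on charts. -/
theorem resTrdeg_eq_zero_of_quasiFiniteAt {U V : Scheme.{u}} (h : U ⟶ V) [LocallyOfFiniteType h] (u : U)
    (hq : h.QuasiFiniteAt u) : Dual3.resTrdeg h u = 0 :=
  AlgSpD.resTrdeg_eq_zero_of_isClosed h u ((EtStruct.quasiFiniteAt_iff_isClosed_and_forall h u).1 hq).1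

theorem lqfNear_of_codim_le_one (hf : AlgSp.LocP @LocallyOfFiniteType f.hom) (hY : AlgSp.IsLocNoethSp Y.obj)
    (y : AlgSp.Points Y.obj)
    (hy : AlgSp.HasAt (fun U u => ringKrullDim ↥(U.presheaf.stalk u) ≤ 1) Y.obj y)
    (h : ∀ x : AlgSp.Points X.obj, AlgSp.HasAt (fun U u => ringKrullDim ↥(U.presheaf.stalk u) = 0) X.obj x →
      AlgSp.Points.map f.hom x ⤳ y → AlgSp.HasAtMor (fun _ _ h u => Dual3.resTrdeg h u = 0) f.hom x)
    (x : AlgSp.Points X.obj) (hx : AlgSp.Points.map f.hom x = y) :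
    AlgSp.HasAtMor AlgSpD.LqfNear f.hom x := by
  obtain ⟨U, V, a, b, g, u, ha, hb, w, rfl⟩ := AlgSpD.exists_diagram f x
  haveI : LocallyOfFiniteType g.left := hf a b g ha hb w
  haveI := Groth.Agent.AlgSp.isLocallyNoetherian_of_etale_chart b hb hY
  refine ⟨U, V, a, b, g, u, ha, hb, w, rfl, ?_⟩
  rw [AlgSpD.lqfNear_iff, ← AlgSpD.quasiFiniteAt_iff_fibreDimAt_eq_zero]
  have hbu : AlgSp.Points.ofPt b (g.left u) = y := by
    rw [← hx, AlgSp.Points.map_ofPt, w, AlgSpB.ofPt_map_comp]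
  have hinv : ∀ ⦃A B : Scheme.{u}⦄ (e : A ⟶ B) [Etale e] (t : ↥A),
      ringKrullDim ↥(A.presheaf.stalk t) ≤ 1 ↔ ringKrullDim ↥(B.presheaf.stalk (e t)) ≤ 1 := fun A B e _ t => by
    rw [(AlgSpD.stalkDim_invariant (ringKrullDim ↥(B.presheaf.stalk (e t))) e t).2 rfl]
  rw [← hbu, AlgSpD.hasAt_iff_chart hinv hb] at hy
  refine quasiFiniteAt_of_codim_le_one g.left u hy fun ξ hξ hmax => ?_
  have hcl : closure {ξ} ∈ irreducibleComponents (U.left : Type u) :=
    (FlatMor.GenericPts.closure_mem_irreducibleComponents_iff ξ).2 fun z hz => specializes_of_eq (hmax z hz).symm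
  have hmap : AlgSp.Points.map f.hom (AlgSp.Points.ofPt a ξ) ⤳ y := by
    rw [AlgSp.Points.map_ofPt, w, AlgSpB.ofPt_map_comp, ← hbu]
    exact (hξ.map g.left.continuous).map (AlgSp.Points.continuous_ofPt b)
  exact (AlgSpD.hasAtMor_iff_chart (AlgSpD.morEtaleInv_resTrdeg 0) f ha hb w ξ).1
    (h _ ((Groth.Agent.AlgSp.codim0_iff_chart ha ξ).2 hcl) hmap)

theorem resTrdeg_of_lqfNear (hf : AlgSp.LocP @LocallyOfFiniteType f.hom) (x : AlgSp.Points X.obj)
    (h : AlgSp.HasAtMor AlgSpD.LqfNear f.hom x) :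
    AlgSp.HasAtMor (fun _ _ h u => Dual3.resTrdeg h u = 0) f.hom x := by
  obtain ⟨U, V, a, b, g, u, ha, hb, w, hx, hu⟩ := h
  haveI : LocallyOfFiniteType g.left := hf a b g ha hb w
  rw [AlgSpD.lqfNear_iff, ← AlgSpD.quasiFiniteAt_iff_fibreDimAt_eq_zero] at hu
  exact ⟨U, V, a, b, g, u, ha, hb, w, hx, resTrdeg_eq_zero_of_quasiFiniteAt g.left u hu⟩

theorem lqfNear_of_dense (hf : AlgSp.LocP @LocallyOfFiniteType f.hom) (hY : AlgSp.IsLocNoethSp Y.obj)
    (h : Dense {x : AlgSp.Points X.obj | AlgSp.HasAtMor AlgSpD.LqfNear f.hom x}) (x : AlgSp.Points X.obj)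
    (hx : AlgSp.HasAt (fun U u => ringKrullDim ↥(U.presheaf.stalk u) = 0) X.obj x) :
    AlgSp.HasAtMor AlgSpD.LqfNear f.hom x := by
  obtain ⟨U, V, a, b, g, u, ha, hb, w, rfl⟩ := AlgSpD.exists_diagram f x
  haveI : LocallyOfFiniteType g.left := hf a b g ha hb w
  haveI := Groth.Agent.AlgSp.isLocallyNoetherian_of_etale_chart b hb hY
  haveI := LocallyOfFiniteType.isLocallyNoetherian g.left
  rw [Groth.Agent.AlgSp.codim0_iff_chart ha] at hx
  have ho : IsOpen {x : AlgSp.Points X.obj | AlgSp.HasAtMor AlgSpD.LqfNear f.hom x} := by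
    simp only [AlgSpD.hasAtMor_lqfNear_iff f.hom hf]
    exact AlgSpD.isOpen_dimZero f hf
  exact FlatMor.GenericPts.mem_of_dense (U := ⟨_, ho.preimage (AlgSp.Points.continuous_ofPt a)⟩)
    (h.preimage (AlgSpB.isOpenMap_ofPt ha)) hx

end Groth.Agent.AlgSpCov.CodimQf
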